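import Cfsg.Agent.H615.DefZeroChar
import Cfsg.Agent.ChevalleyStructure.BNChev
import Cfsg.Agent.ChevalleyStructure.BruhatSplit
import Cfsg.Agent.LieExceptional.BNPairCore
import Cfsg.Agent.S1027
import Cfsg.Agent.S1030
import Cfsg.Agent.S1034
import Cfsg.Agent.S1036
import Cfsg.Agent.S1040
import Cfsg.Agent.S1042
import Cfsg.Agent.S1043
import Cfsg.Agent.S1049
import Cfsg.Agent.S1053
import Cfsg.Agent.Blocks.ExistsModular
import Cfsg.Agent.ChevalleyStructure.HDiag

/-!
# `BruData` and `Root` for the Chevalley groups `D.group F`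

`bru hD p` : the Bruhat data (`U`, `H`, `n₀`) of `D.group F` (`F` finite of characteristic `p`),
`root hD p i` : the root data of the `i`-th fundamental root, `T_le` : `H` is generated by the `h_i(t)`.
`unique` : at most one irreducible character of `p`-defect zero.
-/

set_option autoImplicit false

namespace Cfsg.Agent.H996.BruChev

open Cfsg Cfsg.Lie Cfsg.Agent.ChevalleyStructure Cfsg.Agent.ChevalleyStructure.Elts
  Cfsg.Agent.ChevalleyStructure.NConj Cfsg.Agent.ChevalleyStructure.BNChev Cfsg.Agent.H615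

open scoped Pointwise

universe u

variable {D : ChevalleyDatum} (hD : InList D) {F : Type u} [Field F]

include hD

theorem unipotentRadical_empty : D.unipotentRadical F ∅ = D.posUnipotent F := by
  have G := RootComb.good_of_mem hD
  apply le_antisymm
  · refine (Subgroup.closure_le _).2 ?_
    rintro x ⟨r, t, hr, -, hx⟩
    exact Subgroup.subset_closure ⟨r, t, hr, hx⟩
  · rw [posUnipotent_le_iff hD]
    intro r hr t
    refine Subgroup.subset_closure ⟨r, t, hr, ?_, coe_xG hD r t⟩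
    rintro ⟨-, h1⟩
    obtain ⟨j, hj, h2⟩ := G.co_ne_zero hr.1
    exact h2 (h1 j hj (Set.notMem_empty j))

omit hD in
theorem parabolic_empty : D.parabolicSubgroup F ∅ = D.borelSubgroup F := by
  have : {g : GL D.Idx F | ∃ j ∈ (∅ : Set ℕ), j < D.rank ∧ (g : Matrix D.Idx D.Idx F) = D.nMat F (D.simple j) 1} = ∅ := by
    ext g
    constructor
    · rintro ⟨j, hj, -⟩
      exact hj
    · intro h
      exact absurd h (Set.notMem_empty g)
  show D.borelSubgroup F ⊔ Subgroup.closure _ = _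
  rw [this, Subgroup.closure_empty, sup_bot_eq]

/-- An element of `G` normalising `U` lies in `B`. -/
theorem mem_borel_of_normalizer {m : GL D.Idx F} (hm : m ∈ D.group F)
    (h : m ∈ Subgroup.normalizer (D.posUnipotent F : Set (GL D.Idx F))) : m ∈ D.borelSubgroup F := by
  rw [← parabolic_empty, ← Cfsg.Agent.S1049.result (F := F) D hD ∅ (fun j hj => absurd hj (Set.notMem_empty j)),
    unipotentRadical_empty hD]
  exact ⟨h, hm⟩

/-- An element of `N` normalising `U` lies in `H`. -/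
theorem mem_diagonal_of_normalizer {m : GL D.Idx F} (hm : m ∈ D.monomialSubgroup F)
    (h : m ∈ Subgroup.normalizer (D.posUnipotent F : Set (GL D.Idx F))) : m ∈ D.diagonalSubgroup F := by
  rw [← (Cfsg.Agent.S1040.result (F := F) D hD).2]
  exact ⟨mem_borel_of_normalizer hD (monomial_le_group hD F hm) h, hm⟩

/-- For `n ∈ N`: some positive root group is mapped into `U` by `n⁻¹`, or `n ∈ n₀ H`. -/
theorem mono_cases [Finite F] {n0 n : GL D.Idx F} (hn0 : n0 ∈ D.monomialSubgroup F)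
    (hV : (D.posUnipotent F).map (MulAut.conj n0).toMonoidHom = D.negUnipotent F)
    (hn : n ∈ D.monomialSubgroup F) :
    (∃ r, D.IsPosRoot r ∧ ∀ t : F, n⁻¹ * xG hD r t * n ∈ D.posUnipotent F) ∨
      n0⁻¹ * n ∈ D.diagonalSubgroup F := by
  classical
  by_cases h : ∃ r, D.IsPosRoot r ∧ ∀ t : F, n⁻¹ * xG hD r t * n ∈ D.posUnipotent F
  · exact Or.inl h
  right
  push Not at h
  have h1 : D.negUnipotent F ≤ (D.posUnipotent F).comap (MulAut.conj n⁻¹).toMonoidHom := by
    rw [negUnipotent_le_iff hD]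
    intro r hr t
    have hG := RootComb.good_of_mem hD
    have hr' : r < D.nroots := hr.1
    have hpos : D.IsPosRoot (D.neg r) := by
      rw [hG.isPosRoot_iff]
      have h2 := hG.nroots_eq
      have h3 := Reach.neg_eq hD hr'
      have h4 := (hG.isNegRoot_iff (r := r)).1 hr
      omega
    rcases root_cases (F := F) hD hn (r := D.neg r) (Reach.neg_lt hD hr') with h2 | h2
    · exact absurd h2 (by
        obtain ⟨t, ht⟩ := h _ hpos
        intro h3
        exact ht (h3 t))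
    · have h3 := h2 t
      have h4 : D.neg (D.neg r) = r := by
        have e1 := Reach.neg_eq hD hr'
        have e2 := Reach.neg_eq hD (Reach.neg_lt hD hr')
        have e3 := hG.nroots_eq
        omega
      rw [h4] at h3
      show n⁻¹ * xG hD r t * n⁻¹⁻¹ ∈ D.posUnipotent F
      rwa [inv_inv]
  have h2 : ∀ u ∈ D.posUnipotent F, (n⁻¹ * n0) * u * (n⁻¹ * n0)⁻¹ ∈ D.posUnipotent F := by
    intro u hu
    have h3 : n0 * u * n0⁻¹ ∈ D.negUnipotent F := by
      rw [← hV]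
      exact ⟨u, hu, rfl⟩
    have h4 : n⁻¹ * (n0 * u * n0⁻¹) * n⁻¹⁻¹ ∈ D.posUnipotent F := h1 h3
    have h5 : (n⁻¹ * n0) * u * (n⁻¹ * n0)⁻¹ = n⁻¹ * (n0 * u * n0⁻¹) * n⁻¹⁻¹ := by group
    rw [h5]
    exact h4
  have hmN : n⁻¹ * n0 ∈ D.monomialSubgroup F := mul_mem (inv_mem hn) hn0
  have h3 : (D.posUnipotent F).map (MulAut.conj (n⁻¹ * n0)).toMonoidHom = D.posUnipotent F := by
    have : Finite (GL D.Idx F) := inferInstance
    apply Subgroup.eq_of_le_of_card_ge
    · rintro _ ⟨u, hu, rfl⟩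
      exact h2 u hu
    · rw [Nat.card_congr ((D.posUnipotent F).equivMapOfInjective _ (MulAut.conj (n⁻¹ * n0)).injective).symm.toEquiv]
  have h4 : n⁻¹ * n0 ∈ Subgroup.normalizer (D.posUnipotent F : Set (GL D.Idx F)) := by
    rw [Subgroup.mem_normalizer_iff]
    intro u
    refine ⟨h2 u, fun hu => ?_⟩
    have hu' : (n⁻¹ * n0) * u * (n⁻¹ * n0)⁻¹ ∈ (D.posUnipotent F).map (MulAut.conj (n⁻¹ * n0)).toMonoidHom := by
      rw [h3]; exact hu
    obtain ⟨v, hv, e⟩ := hu'
    have : v = u := (MulAut.conj (n⁻¹ * n0)).injective e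
    rwa [← this]
  have h5 := inv_mem (mem_diagonal_of_normalizer hD hmN h4)
  have h6 : n0⁻¹ * n = (n⁻¹ * n0)⁻¹ := by group
  rw [h6]
  exact h5

/-- `B = U H`. -/
theorem exists_UH {b : GL D.Idx F} (hb : b ∈ D.borelSubgroup F) :
    ∃ u ∈ D.posUnipotent F, ∃ t ∈ D.diagonalSubgroup F, b = u * t := by
  have h1 : D.diagonalSubgroup F ≤ Subgroup.normalizer (D.posUnipotent F : Set (GL D.Idx F)) :=
    (Cfsg.Agent.S1036.result (F := F) D hD).1
  have h2 : ((D.posUnipotent F ⊔ D.diagonalSubgroup F : Subgroup (GL D.Idx F)) : Set (GL D.Idx F)) =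
      (D.posUnipotent F : Set (GL D.Idx F)) * (D.diagonalSubgroup F : Set (GL D.Idx F)) :=
    Subgroup.coe_mul_of_right_le_normalizer_left _ _ h1
  have h3 : b ∈ ((D.posUnipotent F ⊔ D.diagonalSubgroup F : Subgroup (GL D.Idx F)) : Set (GL D.Idx F)) := hb
  rw [h2] at h3
  obtain ⟨u, hu, t, ht, e⟩ := h3
  exact ⟨u, hu, t, ht, e.symm⟩

theorem conj_U {t u : GL D.Idx F} (ht : t ∈ D.diagonalSubgroup F) (hu : u ∈ D.posUnipotent F) :
    t * u * t⁻¹ ∈ D.posUnipotent F :=
  (Subgroup.mem_normalizer_iff.1 ((Cfsg.Agent.S1036.result (F := F) D hD).1 ht) u).1 hu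

/-- Bruhat decomposition: `G = U N U`. -/
theorem exists_UNU {g : GL D.Idx F} (hg : g ∈ D.group F) :
    ∃ u ∈ D.posUnipotent F, ∃ n ∈ D.monomialSubgroup F, ∃ u' ∈ D.posUnipotent F, g = u * n * u' := by
  obtain ⟨P, hPB, hPN, -⟩ := Cfsg.Agent.S1042.result (F := F) D hD
  obtain ⟨n, hn, hgn⟩ := LieExceptional.BNPairCore.bruhat (P := P) (⟨g, hg⟩ : D.group F)
  obtain ⟨x, hx, y, hy, e⟩ := LieExceptional.BNPairCore.mem_C.1 hgn
  rw [hPB, Subgroup.mem_subgroupOf] at hx hy
  rw [hPN, Subgroup.mem_subgroupOf] at hn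
  obtain ⟨u, hu, t, ht, e1⟩ := exists_UH hD hx
  obtain ⟨v, hv, s, hs, e2⟩ := exists_UH hD hy
  have e3 : g = (x : GL D.Idx F) * n * y := congrArg Subtype.val e
  refine ⟨u, hu, t * n * s, mul_mem (mul_mem (diagonal_le_monomial D F ht) hn) (diagonal_le_monomial D F hs),
    s⁻¹ * v * s, ?_, ?_⟩
  · have := conj_U hD (inv_mem hs) hv
    rwa [inv_inv] at this
  · rw [e3, e1, e2]
    group

theorem isPGroup_U [Finite F] (p : ℕ) [Fact p.Prime] [CharP F p] : IsPGroup p ↥(D.posUnipotent F) := by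
  have : Fintype F := Fintype.ofFinite F
  obtain ⟨n, -, hn⟩ := FiniteField.card F p
  refine IsPGroup.of_card (n := n * (D.nroots / 2)) ?_
  rw [Cfsg.Agent.S1027.result D hD, hn, pow_mul]

/-- The chosen element `n₀ ∈ N` with `n₀ U n₀⁻¹ = V`. -/
noncomputable def n0 (F : Type u) [Field F] : GL D.Idx F := Classical.choose (Cfsg.Agent.S1053.result (F := F) D hD)

theorem n0_mem (F : Type u) [Field F] : n0 hD F ∈ D.monomialSubgroup F :=
  (Classical.choose_spec (Cfsg.Agent.S1053.result (F := F) D hD)).1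

theorem n0_map (F : Type u) [Field F] :
    (D.posUnipotent F).map (MulAut.conj (n0 hD F)).toMonoidHom = D.negUnipotent F :=
  (Classical.choose_spec (Cfsg.Agent.S1053.result (F := F) D hD)).2

/-- `n₀² ∈ H`. -/
theorem n0_sq_mem [Finite F] : n0 hD F * n0 hD F ∈ D.diagonalSubgroup F := by
  rcases mono_cases hD (n0_mem hD F) (n0_map hD F) (inv_mem (n0_mem hD F)) with ⟨r, hr, h⟩ | h
  · exfalso
    have h1 := h 1
    rw [inv_inv] at h1
    have h2 : n0 hD F * xG hD r 1 * (n0 hD F)⁻¹ ∈ D.negUnipotent F := by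
      rw [← n0_map hD F]
      exact ⟨_, xG_mem_posUnipotent hD hr 1, rfl⟩
    have h3 := BruhatSplit.eq_one_of_pos_of_neg hD h1 h2
    have h4 : xG hD r (1 : F) = 1 := by
      have := congrArg (fun z => (n0 hD F)⁻¹ * z * n0 hD F) h3
      simpa [mul_assoc] using this
    rw [xG_eq_one_iff hD hr.1] at h4
    exact one_ne_zero h4
  · have := inv_mem h
    rwa [mul_inv_rev, inv_inv] at this

/-- `n₀ X_{-r} n₀⁻¹ ≤ U` for positive `r`, in the form `n₀ V n₀⁻¹ ≤ U`. -/
theorem n0_conj_V [Finite F] {v : GL D.Idx F} (hv : v ∈ D.negUnipotent F) :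
    n0 hD F * v * (n0 hD F)⁻¹ ∈ D.posUnipotent F := by
  rw [← n0_map hD F] at hv
  obtain ⟨u, hu, rfl⟩ := hv
  have := conj_U hD (n0_sq_mem hD (F := F)) hu
  have e : n0 hD F * (MulAut.conj (n0 hD F)).toMonoidHom u * (n0 hD F)⁻¹ =
      n0 hD F * n0 hD F * u * (n0 hD F * n0 hD F)⁻¹ := by
    show n0 hD F * (n0 hD F * u * (n0 hD F)⁻¹) * (n0 hD F)⁻¹ = _
    group
  rw [e]
  exact this

/-- The Bruhat data of `D.group F`. -/
noncomputable def bru (F : Type u) [Field F] [Finite F] (p : ℕ) [Fact p.Prime] [CharP F p] :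
    DefZeroAlg.BruData ↥(D.group F) p where
  U := (D.posUnipotent F).subgroupOf (D.group F)
  T := (D.diagonalSubgroup F).subgroupOf (D.group F)
  n0 := ⟨n0 hD F, monomial_le_group hD F (n0_mem hD F)⟩
  pU := (isPGroup_U hD p).comap_subtype
  TU := by
    intro t ht u hu
    exact conj_U hD ht hu
  cell := by
    rintro ⟨g, hg⟩
    obtain ⟨u, hu, n, hn, u', hu', e⟩ := exists_UNU hD hg
    rcases mono_cases hD (n0_mem hD F) (n0_map hD F) hn with ⟨r, hr, h⟩ | h
    · left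
      have hug := posUnipotent_le_group hD F hu
      refine ⟨⟨u * xG hD r 1 * u⁻¹, mul_mem (mul_mem hug (xG_mem_group hD r 1)) (inv_mem hug)⟩, ?_, ?_, ?_⟩
      · exact mul_mem (mul_mem hu (xG_mem_posUnipotent hD hr 1)) (inv_mem hu)
      · intro h1
        have h2 : u * xG hD r 1 * u⁻¹ = 1 := congrArg Subtype.val h1
        have h3 : xG hD r (1 : F) = 1 := by
          have := congrArg (fun z => u⁻¹ * z * u) h2
          simpa [mul_assoc] using this
        rw [xG_eq_one_iff hD hr.1] at h3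
        exact one_ne_zero h3
      · rw [Subgroup.mem_subgroupOf]
        show g⁻¹ * (u * xG hD r 1 * u⁻¹) * g ∈ D.posUnipotent F
        have h1 : g⁻¹ * (u * xG hD r 1 * u⁻¹) * g = u'⁻¹ * (n⁻¹ * xG hD r 1 * n) * u' := by
          rw [e]; group
        rw [h1]
        exact mul_mem (mul_mem (inv_mem hu') (h 1)) hu'
    · right
      refine ⟨⟨u, posUnipotent_le_group hD F hu⟩, hu, ⟨(n0 hD F)⁻¹ * n, diagonal_le_group hD F h⟩, h,
        ⟨u', posUnipotent_le_group hD F hu'⟩, hu', ?_⟩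
      apply Subtype.ext
      show g = u * n0 hD F * ((n0 hD F)⁻¹ * n) * u'
      rw [e]; group

section SL2

omit hD

/-- upper unitriangular -/
def up (t : F) : Matrix.SpecialLinearGroup (Fin 2) F := ⟨!![1, t; 0, 1], by simp⟩

/-- lower unitriangular -/
def lo (t : F) : Matrix.SpecialLinearGroup (Fin 2) F := ⟨!![1, 0; t, 1], by simp⟩

/-- diagonal -/
def dg (t : Fˣ) : Matrix.SpecialLinearGroup (Fin 2) F := ⟨!![(t : F), 0; 0, ((t⁻¹ : Fˣ) : F)], by simp⟩

/-- the Weyl element -/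
def wy : Matrix.SpecialLinearGroup (Fin 2) F := ⟨!![0, 1; -1, 0], by simp⟩

theorem wy_eq : (wy : Matrix.SpecialLinearGroup (Fin 2) F) = up 1 * (lo (-1) * up 1) := by
  apply Subtype.ext
  show !![0, 1; -1, 0] = !![1, (1 : F); 0, 1] * (!![1, 0; -1, 1] * !![1, 1; 0, 1])
  ext i j; fin_cases i <;> fin_cases j <;> simp [Matrix.mul_apply, Fin.sum_univ_two]

theorem dg_eq (t : Fˣ) : dg t = up (t : F) * (lo (-((t⁻¹ : Fˣ) : F)) * up (t : F)) * (up (-1) * (lo 1 * up (-1))) := by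
  apply Subtype.ext
  show !![(t : F), 0; 0, ((t⁻¹ : Fˣ) : F)] =
    !![1, (t : F); 0, 1] * (!![1, 0; -((t⁻¹ : Fˣ) : F), 1] * !![1, (t : F); 0, 1]) *
      (!![1, (-1 : F); 0, 1] * (!![1, 0; 1, 1] * !![1, (-1 : F); 0, 1]))
  ext i j; fin_cases i <;> fin_cases j <;> simp [Matrix.mul_apply, Fin.sum_univ_two]

theorem dg_mul (s t : Fˣ) : dg (s * t) = dg s * dg t := by
  apply Subtype.ext
  show !![((s * t : Fˣ) : F), 0; 0, (((s * t)⁻¹ : Fˣ) : F)] =
    !![(s : F), 0; 0, ((s⁻¹ : Fˣ) : F)] * !![(t : F), 0; 0, ((t⁻¹ : Fˣ) : F)]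
  ext i j; fin_cases i <;> fin_cases j <;> simp [Matrix.mul_apply, Fin.sum_univ_two, mul_comm]

theorem wy_up_wy (a : Fˣ) : wy * up (a : F) * wy =
    up (-((a⁻¹ : Fˣ) : F)) * wy * dg (-a) * up (-((a⁻¹ : Fˣ) : F)) := by
  apply Subtype.ext
  show !![0, 1; -1, 0] * !![1, (a : F); 0, 1] * !![0, 1; -1, 0] =
    !![1, -((a⁻¹ : Fˣ) : F); 0, 1] * !![0, 1; -1, 0] * !![((-a : Fˣ) : F), 0; 0, (((-a)⁻¹ : Fˣ) : F)] *
      !![1, -((a⁻¹ : Fˣ) : F); 0, 1]
  ext i j; fin_cases i <;> fin_cases j <;> simp [Matrix.mul_apply, Fin.sum_univ_two]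

theorem up_wy (a : F) : up a * wy = wy * lo (-a) := by
  apply Subtype.ext
  show !![1, (a : F); 0, 1] * !![0, 1; -1, 0] = !![0, 1; -1, 0] * !![1, 0; -a, 1]
  ext i j; fin_cases i <;> fin_cases j <;> simp [Matrix.mul_apply, Fin.sum_univ_two]

end SL2

/-- The homomorphism from `SL₂`. -/
theorem exists_phi (F : Type u) [Field F] {r : ℕ} (hr : r < D.nroots) :
    ∃ φ : Matrix.SpecialLinearGroup (Fin 2) F →* GL D.Idx F,
      (∀ t : F, φ (up t) = xG hD r t) ∧ (∀ t : F, φ (lo t) = xG hD (D.neg r) t) ∧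
      φ wy = nG hD r (1 : F) ∧ ∀ t : Fˣ, φ (dg t) = hG hD r (t : F) := by
  obtain ⟨φ, -, h⟩ := Cfsg.Agent.S1030.result (F := F) D hD r hr
  have h1 : ∀ t : F, φ (up t) = xG hD r t := fun t => Units.ext ((h (up t) t).1 rfl)
  have h2 : ∀ t : F, φ (lo t) = xG hD (D.neg r) t := fun t => Units.ext ((h (lo t) t).2 rfl)
  refine ⟨φ, h1, h2, ?_, fun t => ?_⟩
  · rw [wy_eq, map_mul, map_mul, h1, h2, nG_def, inv_one]
  · rw [dg_eq]
    simp only [map_mul, h1, h2]
    rw [hG_def, nG_def, nG_def]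
    simp

theorem simple_pos {i : ℕ} (hi : i < D.rank) : D.IsPosRoot (D.simple i) := by
  have T := Cfsg.Agent.S1049.table D hD i hi
  exact T.2.2.1

theorem neg_simple_neg {i : ℕ} (hi : i < D.rank) : D.IsNegRoot (D.neg (D.simple i)) := by
  have T := Cfsg.Agent.S1049.table D hD i hi
  exact T.2.2.2.1

/-- The root data of the `i`-th fundamental root. -/
noncomputable def root (F : Type u) [Field F] [Finite F] (p : ℕ) [Fact p.Prime] [CharP F p] {i : ℕ}
    (hi : i < D.rank) : DefZeroAlg.Root (bru hD F p) F where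
  x a := ⟨xG hD (D.simple i) a, xG_mem_group hD _ _⟩
  h a := ⟨hG hD (D.simple i) (a : F), hG_mem_group hD _ _⟩
  m := ⟨nG hD (D.simple i) (1 : F), nG_mem_group hD _ _⟩
  x_inj := by
    intro a b h
    exact xG_injective hD (simple_pos hD hi).1 (congrArg Subtype.val h)
  x_add a b := Subtype.ext (xG_add hD _ a b).symm
  h_mem u := hG_mem_diagonal hD (simple_pos hD hi).1 u.ne_zero
  h_mul u v := by
    obtain ⟨φ, -, -, -, h4⟩ := exists_phi hD F (simple_pos hD hi).1
    apply Subtype.ext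
    show hG hD (D.simple i) ((u * v : Fˣ) : F) = hG hD (D.simple i) (u : F) * hG hD (D.simple i) (v : F)
    rw [← h4, ← h4, ← h4, dg_mul, map_mul]
  mm := nG_one_sq_mem hD (simple_pos hD hi).1
  rel a := by
    obtain ⟨φ, h1, h2, h3, h4⟩ := exists_phi hD F (simple_pos hD hi).1
    apply Subtype.ext
    show nG hD (D.simple i) (1 : F) * xG hD (D.simple i) (a : F) * nG hD (D.simple i) (1 : F) =
      xG hD (D.simple i) (-((a⁻¹ : Fˣ) : F)) * nG hD (D.simple i) (1 : F) * hG hD (D.simple i) ((-a : Fˣ) : F) *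
        xG hD (D.simple i) (-((a⁻¹ : Fˣ) : F))
    rw [← h3, ← h1, ← h1, ← h4, ← map_mul, ← map_mul, ← map_mul, ← map_mul, ← map_mul, wy_up_wy]
  x_mem a := xG_mem_posUnipotent hD (simple_pos hD hi) a
  T_m := by
    intro t ht
    have h1 := conj_mem_diagonal hD (inv_mem (nG_one_mem_monomial (F := F) hD (simple_pos hD hi).1))
      (Subgroup.mem_subgroupOf.1 ht)
    rw [inv_inv] at h1
    exact h1
  T_x := by
    intro t ht
    obtain ⟨c, hc, h⟩ := diagonal_conj hD (Subgroup.mem_subgroupOf.1 ht) (simple_pos hD hi).1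
    exact ⟨Equiv.mulLeft₀ c hc, fun a => Subtype.ext (h a)⟩
  T_comm := by
    intro t ht s hs
    exact Subtype.ext (Cfsg.Agent.ChevalleyStructure.HDiag.mul_comm_of_mem D hD ht hs)
  inv := by
    rintro ⟨u, hug⟩ hu
    obtain ⟨v, hv, x, hx, e⟩ := BruhatSplit.exists_Ui_mul hD hi hu
    obtain ⟨b, rfl⟩ := (mem_rootSubgroup_iff hD _ _).1 hx
    replace e : u = v * xG hD (D.simple i) b := e
    refine ⟨b, fun a => ?_⟩
    rw [bru, Subgroup.mem_subgroupOf]
    show (nG hD (D.simple i) (1 : F))⁻¹ * (xG hD (D.simple i) (a + b))⁻¹ * u * xG hD (D.simple i) a *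
      nG hD (D.simple i) (1 : F) ∈ D.posUnipotent F
    have h1 : (xG hD (D.simple i) (a + b))⁻¹ * v * xG hD (D.simple i) (a + b) ∈ BruhatSplit.Ui F D i := by
      have h2 := (Cfsg.Agent.S1045.result (F := F) D hD i hi).1
        (Subgroup.mem_sup_left (inv_mem (xG_mem_rootSubgroup hD (D.simple i) (a + b))))
      have h3 := (Subgroup.mem_normalizer_iff.1 h2 v).1 hv
      rwa [inv_inv] at h3
    have h4 := BruhatSplit.Ui_le i (BruhatSplit.nG_conj_Ui' hD hi h1)
    have h5 : (nG hD (D.simple i) (1 : F))⁻¹ * (xG hD (D.simple i) (a + b))⁻¹ * u * xG hD (D.simple i) a *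
        nG hD (D.simple i) (1 : F) = (nG hD (D.simple i) (1 : F))⁻¹ *
          ((xG hD (D.simple i) (a + b))⁻¹ * v * xG hD (D.simple i) (a + b)) * nG hD (D.simple i) (1 : F) := by
      rw [e, add_comm a b, ← xG_add hD (D.simple i) b a]
      group
    rw [h5]
    exact h4
  conj a := by
    obtain ⟨φ, h1, h2, h3, h4⟩ := exists_phi hD F (simple_pos hD hi).1
    rw [bru, Subgroup.mem_subgroupOf]
    show (n0 hD F * (nG hD (D.simple i) (1 : F))⁻¹) * xG hD (D.simple i) a *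
      (n0 hD F * (nG hD (D.simple i) (1 : F))⁻¹)⁻¹ ∈ D.posUnipotent F
    have h5 : (nG hD (D.simple i) (1 : F))⁻¹ * xG hD (D.simple i) a * nG hD (D.simple i) (1 : F) =
        xG hD (D.neg (D.simple i)) (-a) := by
      rw [mul_assoc, inv_mul_eq_iff_eq_mul, ← h1, ← h2, ← h3, ← map_mul, ← map_mul, up_wy]
    have h6 : (n0 hD F * (nG hD (D.simple i) (1 : F))⁻¹) * xG hD (D.simple i) a *
        (n0 hD F * (nG hD (D.simple i) (1 : F))⁻¹)⁻¹ = n0 hD F * ((nG hD (D.simple i) (1 : F))⁻¹ *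
          xG hD (D.simple i) a * nG hD (D.simple i) (1 : F)) * (n0 hD F)⁻¹ := by group
    rw [h6, h5]
    exact n0_conj_V hD (xG_mem_negUnipotent hD (neg_simple_neg hD hi) _)

theorem T_le (F : Type u) [Field F] [Finite F] (p : ℕ) [Fact p.Prime] [CharP F p] :
    (bru hD F p).T ≤ Subgroup.closure {t | ∃ (i : Fin D.rank) (a : Fˣ), t = (root hD F p i.2).h a} := by
  rintro ⟨t, htg⟩ ht
  obtain ⟨c, hc, hw⟩ := S1034.result D hD t (Subgroup.mem_subgroupOf.1 ht)
  have key : ∀ l : List ℕ, (∀ i ∈ l, i < D.rank) →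
      ∃ z ∈ Subgroup.closure {t | ∃ (i : Fin D.rank) (a : Fˣ), t = (root hD F p i.2).h a},
        (z : GL D.Idx F) = wordG hD (l.flatMap fun i => D.hWord (D.simple i) (c i)) := by
    intro l
    induction l with
    | nil => intro _; exact ⟨1, one_mem _, rfl⟩
    | cons i l ih =>
      intro hl
      obtain ⟨z, hz, e⟩ := ih fun j hj => hl j (List.mem_cons_of_mem _ hj)
      have hi := hl i List.mem_cons_self
      refine ⟨(root hD F p (i := i) hi).h (Units.mk0 (c i) (hc i hi)) * z,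
        mul_mem (Subgroup.subset_closure ⟨⟨i, hi⟩, _, rfl⟩) hz, ?_⟩
      rw [List.flatMap_cons, wordG_append, ← e]
      rfl
  obtain ⟨z, hz, e⟩ := key (List.range D.rank) fun i hi => List.mem_range.1 hi
  have h1 : (⟨t, htg⟩ : D.group F) = z := by
    apply Subtype.ext
    apply Units.ext
    rw [e, coe_wordG]
    exact hw
  rw [h1]
  exact hz

/-- At most one irreducible character of `p`-defect zero. -/
theorem unique [Fintype F] (p : ℕ) [Fact p.Prime] [CharP F p] (χ χ' : IrrCharacter ↥(D.group F))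
    (hχ : ¬ p ∣ Nat.card ↥(D.group F) / charDegree (χ : ↥(D.group F) → ℂ))
    (hχ' : ¬ p ∣ Nat.card ↥(D.group F) / charDegree (χ' : ↥(D.group F) → ℂ)) : χ = χ' := by
  have : Fintype ↥(D.group F) := Fintype.ofFinite _
  obtain ⟨M, hM⟩ := Blocks.ExistsModular.exists_isPModular (Fact.out : p.Prime)
  exact DefZeroChar.defect_zero_unique hM (bru hD F p) (fun i : Fin D.rank => root hD F p i.2) (T_le hD F p)
    χ χ' hχ hχ'

end Cfsg.Agent.H996.BruChev
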